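import Mathlib
import Cfsg.Agent.S2387

/-!
Counting the classes of elements of prime order `r` of `G / Z(G)`, for a subgroup `G` of `GL_n(K)`
in which conjugacy is similarity, whose centre consists of the scalars from a group `U` of order
divisible by `r`, and which contains the monomial matrices with entries in `U`.
-/

set_option autoImplicit false

namespace Cfsg.Agent.PrimeScalarClasses

open Polynomial

/-! ### Orbits of the rotation on compositions -/

section Orbits

variable (μ : Type*) [Group μ] [Fintype μ] (n : ℕ)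

/-- Compositions of `n` indexed by `μ` with all parts smaller than `n`. -/
abbrev Comp : Type _ := {a : μ → ℕ // ∑ x, a x = n ∧ ∀ x, a x < n}

instance : MulAction μ (Comp μ n) where
  smul g a := ⟨fun x => a.1 (g⁻¹ * x),
    (Equiv.sum_comp (Equiv.mulLeft g⁻¹) a.1).trans a.2.1, fun x => a.2.2 _⟩
  one_smul a := Subtype.ext (funext fun x => show a.1 (1⁻¹ * x) = a.1 x by rw [inv_one, one_mul])
  mul_smul g h a := Subtype.ext (funext fun x =>
    show a.1 ((g * h)⁻¹ * x) = a.1 (h⁻¹ * (g⁻¹ * x)) by rw [mul_inv_rev, mul_assoc])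

variable {μ n}

theorem smul_apply (g : μ) (a : Comp μ n) (x : μ) : (g • a).1 x = a.1 (g⁻¹ * x) := rfl

instance : Finite (Comp μ n) := by
  refine Finite.of_injective (β := μ → Fin (n + 1))
    (fun a x => ⟨a.1 x, Nat.lt_succ_of_lt (a.2.2 x)⟩) fun a b h => Subtype.ext (funext fun x => ?_)
  simpa using congrFun h x

theorem card_comp {r : ℕ} (hμ : Nat.card μ = r) (hn : 1 ≤ n) :
    Nat.card (Comp μ n) + r = Nat.choose (n + r - 1) (r - 1) := by
  classical
  have hN : Nat.card {a : μ → ℕ // ∑ x, a x = n} = Nat.choose (n + r - 1) (r - 1) := by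
    rw [← Nat.card_congr (Sym.equivNatSumOfFintype μ n), Nat.card_eq_fintype_card,
      Sym.card_sym_eq_choose, ← Nat.card_eq_fintype_card, hμ]
    have : 0 < r := hμ ▸ Nat.card_pos
    rw [show r + n - 1 = n + r - 1 by omega]
    exact Nat.choose_symm_of_eq_add (by omega)
  haveI : Finite {a : μ → ℕ // ∑ x, a x = n} := Finite.of_equiv _ (Sym.equivNatSumOfFintype μ n)
  let f : Comp μ n ⊕ μ → {a : μ → ℕ // ∑ x, a x = n} := Sum.elim (fun a => ⟨a.1, a.2.1⟩)
    fun x => ⟨Pi.single x n, by simp⟩
  have hf : Function.Bijective f := by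
    constructor
    · rintro (a | x) (b | y) h
      · exact congrArg Sum.inl (Subtype.ext (congrArg (fun t : {a : μ → ℕ // ∑ x, a x = n} => t.1) h))
      · have h' : a.1 = Pi.single y n := congrArg (fun t : {a : μ → ℕ // ∑ x, a x = n} => t.1) h
        have := a.2.2 y
        simp [h'] at this
      · have h' : Pi.single x n = b.1 := congrArg (fun t : {a : μ → ℕ // ∑ x, a x = n} => t.1) h
        have := b.2.2 x
        simp [← h'] at this
      · have h' : (Pi.single x n : μ → ℕ) = Pi.single y n :=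
          congrArg (fun t : {a : μ → ℕ // ∑ x, a x = n} => t.1) h
        by_contra hxy
        have := congrFun h' x
        rw [Pi.single_eq_same, Pi.single_eq_of_ne (fun e => hxy (congrArg Sum.inr e))] at this
        omega
    · rintro ⟨a, ha⟩
      by_cases h : ∀ x, a x < n
      · exact ⟨Sum.inl ⟨a, ha, h⟩, rfl⟩
      · push Not at h
        obtain ⟨x, hx⟩ := h
        refine ⟨Sum.inr x, Subtype.ext (funext fun y => ?_)⟩
        show Pi.single (M := fun _ => ℕ) x n y = a y
        have hle : ∀ z, z ≠ x → a z + a x ≤ n := fun z hz => by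
          rw [← ha, ← Finset.sum_pair hz]
          exact Finset.sum_le_sum_of_subset (Finset.subset_univ _)
        by_cases hy : y = x
        · subst hy
          rw [Pi.single_eq_same]
          have : a y ≤ n := ha ▸ Finset.single_le_sum (fun z _ => Nat.zero_le (a z)) (Finset.mem_univ y)
          omega
        · rw [Pi.single_eq_of_ne hy]
          have := hle y hy
          omega
  rw [← hN, ← Nat.card_eq_of_bijective f hf, Nat.card_sum, hμ]

theorem card_orbits {r : ℕ} (hr : r.Prime) (hμ : Nat.card μ = r) (hn : 1 ≤ n) :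
    Nat.card (MulAction.orbitRel.Quotient μ (Comp μ n)) =
      (Nat.choose (n + r - 1) (r - 1) - r - (if r ∣ n then 1 else 0)) / r + (if r ∣ n then 1 else 0) := by
  classical
  haveI := Fact.mk hr
  haveI := Fintype.ofFinite (Comp μ n)
  haveI := Fintype.ofFinite (MulAction.orbitRel.Quotient μ (Comp μ n))
  set δ := if r ∣ n then 1 else 0 with hδ
  have hfix : ∀ g : μ, g ≠ 1 → Fintype.card (MulAction.fixedBy (Comp μ n) g) = δ := by
    intro g hg
    have hconst : ∀ a ∈ MulAction.fixedBy (Comp μ n) g, ∀ x : μ, a.1 x = a.1 1 := by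
      intro a ha x
      have hle : Subgroup.zpowers g ≤ MulAction.stabilizer μ a := Subgroup.zpowers_le.2 ha
      rw [zpowers_eq_top_of_prime_card hμ hg] at hle
      have h1 : x • a = a := hle (Subgroup.mem_top x)
      conv_lhs => rw [← h1]
      rw [smul_apply, inv_mul_cancel]
    have hsum : ∀ a ∈ MulAction.fixedBy (Comp μ n) g, r * a.1 1 = n := by
      intro a ha
      calc r * a.1 1 = ∑ _x : μ, a.1 1 := by
            rw [Finset.sum_const, Finset.card_univ, ← Nat.card_eq_fintype_card, hμ, smul_eq_mul]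
        _ = n := by rw [← Finset.sum_congr rfl (fun x _ => hconst a ha x), a.2.1]
    rw [hδ]
    split_ifs with hd
    · obtain ⟨k, rfl⟩ := hd
      refine Fintype.card_eq_one_iff.2 ⟨⟨⟨fun _ => k, ?_, fun _ => ?_⟩, ?_⟩, ?_⟩
      · rw [Finset.sum_const, Finset.card_univ, ← Nat.card_eq_fintype_card, hμ, smul_eq_mul]
      · have := hr.two_le
        nlinarith
      · exact Subtype.ext (funext fun x => rfl)
      · rintro ⟨a, ha⟩
        refine Subtype.ext (Subtype.ext (funext fun x => ?_))
        show a.1 x = k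
        rw [hconst a ha x]
        exact mul_left_cancel₀ hr.ne_zero (hsum a ha)
    · refine Fintype.card_eq_zero_iff.2 ⟨?_⟩
      rintro ⟨a, ha⟩
      exact hd ⟨_, (hsum a ha).symm⟩
  have h := MulAction.sum_card_fixedBy_eq_card_orbits_mul_card_group μ (Comp μ n)
  rw [← Finset.add_sum_erase _ _ (Finset.mem_univ (1 : μ)),
    Finset.sum_congr rfl (fun g hg => hfix g (Finset.ne_of_mem_erase hg)), Finset.sum_const,
    Finset.card_erase_of_mem (Finset.mem_univ _), Finset.card_univ, ← Nat.card_eq_fintype_card (α := μ),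
    hμ, smul_eq_mul, ← Nat.card_eq_fintype_card, ← Nat.card_eq_fintype_card] at h
  have h1 : Nat.card (MulAction.fixedBy (Comp μ n) (1 : μ)) = Nat.card (Comp μ n) :=
    Nat.card_congr (Equiv.subtypeUnivEquiv fun a => one_smul μ a)
  rw [h1] at h
  have hc := card_comp hμ hn
  rw [← hc, Nat.add_sub_cancel]
  set N := Nat.card (MulAction.orbitRel.Quotient μ (Comp μ n))
  set A := Nat.card (Comp μ n)
  have hr2 := hr.two_le
  have hδ' : δ = 1 ∨ δ = 0 := ite_eq_or_eq _ _ _
  clear_value δ
  rcases hδ' with e | e <;> rw [e] at h ⊢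
  · have hN : 1 ≤ N := by
      rcases Nat.eq_zero_or_pos N with h0 | h0
      · rw [h0] at h; omega
      · exact h0
    obtain ⟨N', hN'⟩ : ∃ N', N = N' + 1 := ⟨N - 1, by omega⟩
    rw [hN', Nat.succ_mul] at h
    rw [show A - 1 = N' * r by omega, Nat.mul_div_cancel _ hr.pos, hN']
  · rw [show A - 0 = N * r by omega, Nat.mul_div_cancel _ hr.pos, add_zero]

end Orbits

/-! ### Monomial matrices -/

section Mono

variable {K : Type*} [Field K] {n : ℕ}

/-- The monomial matrix sending the `j`-th basis vector to `w j` times the `σ j`-th one. -/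
def monoMat (σ : Equiv.Perm (Fin n)) (w : Fin n → Kˣ) : Matrix (Fin n) (Fin n) K :=
  fun i j => if i = σ j then (w j : K) else 0

theorem monoMat_mul (σ τ : Equiv.Perm (Fin n)) (w v : Fin n → Kˣ) :
    monoMat σ w * monoMat τ v = monoMat (σ * τ) (fun j => w (τ j) * v j) := by
  ext i j
  rw [Matrix.mul_apply, Finset.sum_eq_single (τ j) (fun b _ hb => by simp [monoMat, hb]) (by simp)]
  simp [monoMat]
  congr

theorem monoMat_one : monoMat (K := K) (1 : Equiv.Perm (Fin n)) 1 = 1 := by
  ext i j
  simp [monoMat, Matrix.one_apply]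
  congr

/-- The monomial matrix as a unit. -/
def mono (σ : Equiv.Perm (Fin n)) (w : Fin n → Kˣ) : GL (Fin n) K where
  val := monoMat σ w
  inv := monoMat σ⁻¹ fun j => (w (σ⁻¹ j))⁻¹
  val_inv := by
    rw [monoMat_mul, mul_inv_cancel, ← monoMat_one]
    congr 1
    funext j
    simp
  inv_val := by
    rw [monoMat_mul, inv_mul_cancel, ← monoMat_one]
    congr 1
    funext j
    simp

theorem mono_mul (σ τ : Equiv.Perm (Fin n)) (w v : Fin n → Kˣ) :
    mono σ w * mono τ v = mono (σ * τ) (fun j => w (τ j) * v j) :=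
  Units.ext (monoMat_mul σ τ w v)

theorem mono_one : mono (K := K) (1 : Equiv.Perm (Fin n)) 1 = 1 := Units.ext monoMat_one

theorem mono_pow (σ : Equiv.Perm (Fin n)) (w : Fin n → Kˣ) (k : ℕ) :
    mono σ w ^ k = mono (σ ^ k) (fun j => ∏ l ∈ Finset.range k, w ((σ ^ l) j)) := by
  induction k with
  | zero => rw [pow_zero, pow_zero, ← mono_one]; congr 1
  | succ k ih =>
    rw [pow_succ', ih, mono_mul, ← pow_succ']
    congr 1
    funext j
    rw [Finset.prod_range_succ, mul_comm]

theorem scalar_eq_mono (d : Kˣ) :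
    Matrix.GeneralLinearGroup.scalar (Fin n) d = mono 1 fun _ => d := by
  refine Units.ext (Matrix.ext fun i j => ?_)
  show Matrix.scalar (Fin n) (d : K) i j = monoMat 1 (fun _ => d) i j
  by_cases h : i = j <;> simp [monoMat, h]

theorem mono_charpoly (w : Fin n → Kˣ) :
    (mono 1 w).1.charpoly = ∏ i, (X - C (w i : K)) := by
  have : (mono 1 w).1 = Matrix.diagonal fun i => (w i : K) := by
    refine Matrix.ext fun i j => ?_
    show monoMat 1 w i j = _
    by_cases h : i = j
    · subst h; simp [monoMat]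
    · simp [monoMat, h]
  rw [this, Matrix.charpoly_diagonal]

theorem charpoly_dvd_pow (A : Matrix (Fin n) (Fin n) K) (f : K[X]) (h : aeval A f = 0) :
    A.charpoly ∣ f ^ n := by
  classical
  obtain rfl | hn := Nat.eq_zero_or_pos n
  · simp [Matrix.charpoly, Matrix.det_isEmpty]
  let L := AlgebraicClosure K
  rw [← Polynomial.map_dvd_map (algebraMap K L) (algebraMap K L).injective (Matrix.charpoly_monic A),
    Polynomial.map_pow]
  have hs : (A.charpoly.map (algebraMap K L)).Splits := IsAlgClosed.splits _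
  rw [hs.eq_prod_roots_of_monic ((Matrix.charpoly_monic A).map _)]
  have hcard : Multiset.card (A.charpoly.map (algebraMap K L)).roots ≤ n := by
    refine (Polynomial.card_roots' _).trans ?_
    rw [Polynomial.natDegree_map, Matrix.charpoly_natDegree_eq_dim, Fintype.card_fin]
  have key : ∀ M : Multiset L, (∀ r ∈ M, X - C r ∣ f.map (algebraMap K L)) →
      (M.map fun r => X - C r).prod ∣ (f.map (algebraMap K L)) ^ Multiset.card M := by
    intro M
    induction M using Multiset.induction with
    | empty => simp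
    | cons a s ih =>
      intro hM
      rw [Multiset.map_cons, Multiset.prod_cons, Multiset.card_cons, pow_succ']
      exact mul_dvd_mul (hM a (Multiset.mem_cons_self _ _)) (ih fun r hr => hM r (Multiset.mem_cons_of_mem hr))
  refine (key _ fun r hr => ?_).trans (pow_dvd_pow _ hcard)
  rw [Polynomial.dvd_iff_isRoot, Polynomial.IsRoot]
  have hr' : r ∈ spectrum L (A.map (algebraMap K L)) := by
    rw [Matrix.mem_spectrum_iff_isRoot_charpoly, Matrix.charpoly_map]
    exact (Polynomial.mem_roots'.1 hr).2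
  have h2 := spectrum.subset_polynomial_aeval (A.map (algebraMap K L)) (f.map (algebraMap K L))
    ⟨r, hr', rfl⟩
  have h0 : aeval (A.map (algebraMap K L)) (f.map (algebraMap K L)) = 0 := by
    rw [aeval_map_algebraMap]
    have := aeval_algHom_apply ((Algebra.ofId K L).mapMatrix (m := Fin n)) A f
    rw [h, map_zero] at this
    exact this
  rw [h0] at h2
  haveI : NeZero n := ⟨by omega⟩
  rw [spectrum.zero_eq] at h2
  exact h2

theorem charpoly_eq_of_isConj {x y : GL (Fin n) K} (h : IsConj x y) : x.1.charpoly = y.1.charpoly := by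
  obtain ⟨c, hc⟩ := isConj_iff.1 h
  rw [← hc, Units.val_mul, Units.val_mul, Matrix.coe_units_inv, Matrix.charpoly_units_conj]

theorem scalar_inj (hn : 1 ≤ n) {c d : Kˣ}
    (h : Matrix.GeneralLinearGroup.scalar (Fin n) c = Matrix.GeneralLinearGroup.scalar (Fin n) d) : c = d := by
  have h1 := congrArg (fun g : GL (Fin n) K => g.1 ⟨0, hn⟩ ⟨0, hn⟩) h
  simp only [scalar_eq_mono] at h1
  refine Units.ext ?_
  simpa [mono, monoMat] using h1

theorem scalar_comm (c : Kˣ) (x : GL (Fin n) K) :
    Commute (Matrix.GeneralLinearGroup.scalar (Fin n) c) x := by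
  refine Units.ext ?_
  show Matrix.scalar (Fin n) (c : K) * x.1 = x.1 * Matrix.scalar (Fin n) (c : K)
  exact (Matrix.scalar_commute _ (fun _ => Commute.all _ _) _).eq

end Mono

/-! ### The count -/

section Count

variable {K : Type*} [Field K] [Fintype K] {n r : ℕ}

theorem isConj_of_pow_eq (hrK : (r : K) ≠ 0) {x y : GL (Fin n) K} {c : Kˣ}
    (hx : x ^ r = Matrix.GeneralLinearGroup.scalar (Fin n) c)
    (hy : y ^ r = Matrix.GeneralLinearGroup.scalar (Fin n) c) (he : x.1.charpoly = y.1.charpoly) :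
    IsConj x y := by
  classical
  obtain ⟨p, hp⟩ := CharP.exists K
  haveI : Fact p.Prime := ⟨CharP.char_is_prime K p⟩
  obtain ⟨f, -, hF⟩ := FiniteField.card K p
  have key : ∀ z : GL (Fin n) K, z ^ r = Matrix.GeneralLinearGroup.scalar (Fin n) c →
      (orderOf z).Coprime p := by
    intro z hz
    have h1 : z ^ (r * (Fintype.card K - 1)) = 1 := by
      rw [pow_mul, hz, ← map_pow, ← Fintype.card_units, pow_card_eq_one, map_one]
    refine Nat.Coprime.coprime_dvd_left (orderOf_dvd_of_pow_eq_one h1)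
      (((Fact.out : p.Prime).coprime_iff_not_dvd.2 fun hd => ?_).symm)
    have hpF : p ∣ Fintype.card K := hF ▸ dvd_pow_self p f.ne_zero
    rcases (Fact.out : p.Prime).dvd_mul.1 hd with h2 | h2
    · exact hrK ((CharP.cast_eq_zero_iff K p r).2 h2)
    · have h3 : Fintype.card K - (Fintype.card K - 1) = 1 := by
        have := Fintype.card_pos (α := K)
        omega
      exact (Fact.out : p.Prime).not_dvd_one (h3 ▸ Nat.dvd_sub hpF h2)
  exact S2387.isConj_of_charpoly x y (key x hx) (key y hy) he

theorem card_classes {G : Type*} [Group G] (φ : G →* GL (Fin n) K)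
    (U : Subgroup Kˣ) (hn : 1 ≤ n) (hr : r.Prime) (hrU : r ∣ Nat.card U)
    (hconj : ∀ a b : G, IsConj (φ a) (φ b) → IsConj a b)
    (hZ : ∀ g : G, g ∈ Subgroup.center G ↔ ∃ u ∈ U, Matrix.GeneralLinearGroup.scalar (Fin n) u = φ g)
    (hmono : ∀ (σ : Equiv.Perm (Fin n)) (w : Fin n → Kˣ), (∀ i, w i ∈ U) → ∃ g, φ g = mono σ w)
    (hpow : ∀ c ∈ U, (∃ d : Kˣ, d ^ r = c) → ∃ d ∈ U, d ^ r = c) :
    Nat.card {C : ConjClasses (G ⧸ Subgroup.center G) //
      ∃ g : G ⧸ Subgroup.center G, ConjClasses.mk g = C ∧ orderOf g = r} =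
    (Nat.choose (n + r - 1) (r - 1) - r - (if r ∣ n then 1 else 0)) / r +
      r * (if r ∣ n then 1 else 0) := by
  classical
  haveI := Fact.mk hr
  set Z := Subgroup.center G with hZdef
  let sc : Kˣ →* GL (Fin n) K := Matrix.GeneralLinearGroup.scalar (Fin n)
  have hrK : (r : K) ≠ 0 := by
    intro h0
    obtain ⟨p, hp⟩ := CharP.exists K
    obtain ⟨f, hpp, hF⟩ := FiniteField.card K p
    have h1 : p ∣ r := (CharP.cast_eq_zero_iff K p r).1 h0
    have := (Nat.prime_dvd_prime_iff_eq hpp hr).1 h1
    subst this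
    have h2 : p ∣ Nat.card Kˣ := hrU.trans (Subgroup.card_subgroup_dvd_card U)
    rw [Nat.card_units, Nat.card_eq_fintype_card] at h2
    have h3 : Fintype.card K - (Fintype.card K - 1) = 1 := by
      have := Fintype.card_pos (α := K)
      omega
    exact hpp.not_dvd_one (h3 ▸ Nat.dvd_sub (hF ▸ dvd_pow_self p f.ne_zero) h2)
  -- the `r`-th roots of unity and the power classes
  let μ : Subgroup U := (powMonoidHom r : U →* U).ker
  have hμc : Nat.card μ = r := by
    rw [IsCyclic.card_powMonoidHom_ker, Nat.gcd_eq_right hrU]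
  haveI : Fintype μ := Fintype.ofFinite _
  let R : Subgroup U := (powMonoidHom r : U →* U).range
  have hQc : Nat.card (U ⧸ R) = r := by
    rw [← Subgroup.index_eq_card, IsCyclic.index_powMonoidHom_range, Nat.gcd_eq_right hrU]
  let v : μ → Kˣ := fun x => ((x : U) : Kˣ)
  have hvU : ∀ x, v x ∈ U := fun x => (x : U).2
  have hvinj : Function.Injective v := fun a b h => Subtype.ext (Subtype.ext h)
  have hvr : ∀ x, v x ^ r = 1 := fun x => congrArg (Subtype.val : U → Kˣ) (MonoidHom.mem_ker.1 x.2)
  have hvmul : ∀ x y : μ, v (x * y) = v x * v y := fun _ _ => rfl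
  have hinjK : Function.Injective (fun x : μ => (v x : K)) := fun a b h => hvinj (Units.ext h)
  have hprod : ∏ x : μ, (X - C (v x : K)) = X ^ r - C 1 := by
    have hS : (Finset.univ.image fun x : μ => (v x : K)).card = r := by
      rw [Finset.card_image_of_injective _ hinjK, Finset.card_univ,
        ← Nat.card_eq_fintype_card, hμc]
    have hsub : (Finset.univ.image fun x : μ => (v x : K)).val ≤ (X ^ r - C (1 : K)).roots := by
      rw [Finset.val_le_iff_val_subset]
      intro y hy
      rw [Finset.mem_val, Finset.mem_image] at hy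
      obtain ⟨x, -, rfl⟩ := hy
      rw [mem_roots (X_pow_sub_C_ne_zero hr.pos _)]
      simp [IsRoot, ← Units.val_pow_eq_pow_val, hvr]
    have hle := Polynomial.card_roots' (X ^ r - C (1 : K))
    rw [natDegree_X_pow_sub_C] at hle
    have heq := Multiset.eq_of_le_of_card_le hsub (hle.trans hS.ge)
    have h := prod_multiset_X_sub_C_of_monic_of_roots_card_eq (monic_X_pow_sub_C (1 : K) hr.ne_zero)
      (by rw [← heq, natDegree_X_pow_sub_C]; exact hS)
    rw [← heq, Finset.prod_map_val, Finset.prod_image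
      (fun a _ b _ h => hinjK h)] at h
    exact h
  -- multiplicities are determined
  have hcount : ∀ a b : μ → ℕ, (∏ x : μ, (X - C (v x : K)) ^ a x) = ∏ x : μ, (X - C (v x : K)) ^ b x →
      a = b := by
    intro a b h
    have key : ∀ (a : μ → ℕ) (z : μ),
        (∏ x : μ, (X - C (v x : K)) ^ a x).rootMultiplicity (v z : K) = a z := by
      intro a z
      rw [← Finset.prod_erase_mul _ _ (Finset.mem_univ z), rootMultiplicity_mul_X_sub_C_pow
        (Finset.prod_ne_zero_iff.2 fun x _ => pow_ne_zero _ (X_sub_C_ne_zero _)),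
        rootMultiplicity_eq_zero, zero_add]
      rw [IsRoot, eval_prod, Finset.prod_eq_zero_iff]
      rintro ⟨x, hx, h0⟩
      rw [eval_pow, pow_eq_zero_iff'] at h0
      rw [eval_sub, eval_X, eval_C, sub_eq_zero] at h0
      exact Finset.ne_of_mem_erase hx (hvinj (Units.ext h0.1.symm))
    funext z
    rw [← key a z, h, key b z]
  -- scalars in `G`
  have hscU : ∀ u ∈ U, ∃ z ∈ Z, φ z = sc u := by
    intro u hu
    obtain ⟨z, hz⟩ := hmono 1 (fun _ => u) (fun _ => hu)
    rw [← scalar_eq_mono] at hz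
    exact ⟨z, (hZ z).2 ⟨u, hu, hz.symm⟩, hz⟩
  have hsame : ∀ (x y : G) (u : Kˣ), u ∈ U → IsConj (φ x) (sc u * φ y) →
      ConjClasses.mk (QuotientGroup.mk x : G ⧸ Z) = ConjClasses.mk (QuotientGroup.mk y) := by
    intro x y u hu h
    obtain ⟨z, hz, hzu⟩ := hscU u hu
    have h1 : IsConj x (z * y) := hconj _ _ (by rw [map_mul, hzu]; exact h)
    have h2 : IsConj (QuotientGroup.mk' Z x) (QuotientGroup.mk' Z (z * y)) :=
      (QuotientGroup.mk' Z).map_isConj h1
    rw [map_mul, QuotientGroup.mk'_apply _ z, (QuotientGroup.eq_one_iff z).2 hz, one_mul] at h2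
    exact ConjClasses.mk_eq_mk_iff_isConj.2 h2
  have hlift : ∀ x y : G, ConjClasses.mk (QuotientGroup.mk x : G ⧸ Z) = ConjClasses.mk (QuotientGroup.mk y) →
      ∃ u ∈ U, IsConj (φ x) (sc u * φ y) := by
    intro x y h
    obtain ⟨k, hk⟩ := isConj_iff.1 (ConjClasses.mk_eq_mk_iff_isConj.1 h)
    obtain ⟨k, rfl⟩ := QuotientGroup.mk_surjective k
    rw [← QuotientGroup.mk_inv, ← QuotientGroup.mk_mul, ← QuotientGroup.mk_mul, QuotientGroup.eq] at hk
    obtain ⟨u, hu, hu'⟩ := (hZ _).1 hk
    refine ⟨u⁻¹, U.inv_mem hu, isConj_iff.2 ⟨φ k, ?_⟩⟩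
    change sc u = _ at hu'
    rw [map_mul, map_inv] at hu'
    rw [map_inv, eq_inv_mul_iff_mul_eq, (scalar_comm u _).eq, show Matrix.GeneralLinearGroup.scalar (Fin n) u = _ from hu',
      ← map_inv, ← map_mul, ← map_mul, mul_inv_cancel_left]
  have hord : ∀ g : G, orderOf (QuotientGroup.mk g : G ⧸ Z) = r ↔
      (∃ u ∈ U, φ g ^ r = sc u) ∧ ¬ ∃ u ∈ U, sc u = φ g := by
    intro g
    rw [orderOf_eq_prime_iff, ← QuotientGroup.mk_pow, QuotientGroup.eq_one_iff, Ne, QuotientGroup.eq_one_iff,
      hZ, hZ]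
    refine and_congr_left fun _ => ?_
    rw [map_pow]
    exact ⟨fun ⟨u, hu, h⟩ => ⟨u, hu, h.symm⟩, fun ⟨u, hu, h⟩ => ⟨u, hu, h.symm⟩⟩
  -- diagonal representatives
  have hlab : ∀ a : Comp μ n, ∃ l : Fin n → μ, ∀ f : μ → K[X], ∏ i, f (l i) = ∏ x, f x ^ a.1 x := by
    intro a
    let e : (Σ x : μ, Fin (a.1 x)) ≃ Fin n := Fintype.equivFinOfCardEq (by simp [a.2.1])
    refine ⟨fun i => (e.symm i).1, fun f => ?_⟩
    rw [Equiv.prod_comp e.symm (fun s => f s.1), Fintype.prod_sigma]
    exact Finset.prod_congr rfl fun x _ => by simp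
  choose lab hlab using hlab
  have hDex : ∀ a : Comp μ n, ∃ g, φ g = mono 1 (fun i => v (lab a i)) :=
    fun a => hmono 1 _ (fun i => hvU _)
  choose D hD using hDex
  have hDr : ∀ a, φ (D a) ^ r = 1 := fun a => by
    rw [hD, mono_pow, one_pow, ← mono_one]
    congr 1
    funext j
    simp [hvr]
  have hDcp : ∀ (d : μ) (a : Comp μ n),
      (sc (v d) * φ (D a)).1.charpoly = ∏ x : μ, (X - C (v x : K)) ^ (d • a).1 x := by
    intro d a
    rw [hD, show sc (v d) = mono 1 (fun _ => v d) from scalar_eq_mono _, mono_mul, one_mul, mono_charpoly]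
    have h1 := hlab a (fun x => X - C (v (d * x) : K))
    simp only [hvmul, Units.val_mul] at h1
    refine (Eq.trans ?_ (h1.trans ?_))
    · exact Finset.prod_congr rfl fun i _ => by simp
    · refine Fintype.prod_equiv (Equiv.mulLeft d) _ _ fun x => ?_
      simp [smul_apply, hvmul]
  have hDcp1 : ∀ a : Comp μ n, (φ (D a)).1.charpoly = ∏ x : μ, (X - C (v x : K)) ^ a.1 x := by
    intro a
    have h := hDcp 1 a
    rw [one_smul] at h
    simpa [v, sc] using h
  have hDZ : ∀ a, ¬ ∃ u ∈ U, sc u = φ (D a) := by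
    rintro a ⟨u, hu, hua⟩
    have h1 : u ^ r = 1 := scalar_inj hn (by rw [map_pow, map_one, ← hDr a, ← hua])
    let x : μ := ⟨⟨u, hu⟩, MonoidHom.mem_ker.2 (Subtype.ext h1)⟩
    have h2 : (∏ y : μ, (X - C (v y : K)) ^ (Pi.single (M := fun _ => ℕ) x n) y) =
        ∏ y : μ, (X - C (v y : K)) ^ a.1 y := by
      rw [← hDcp1, ← hua, show sc u = mono 1 (fun _ => v x) from scalar_eq_mono _, mono_charpoly,
        Finset.prod_eq_single x (fun y _ hy => by simp [hy]) (by simp)]
      simp
    have h3 := a.2.2 x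
    rw [← hcount _ _ h2, Pi.single_eq_same] at h3
    exact lt_irrefl _ h3
  -- non-split representatives
  let W := {x : U ⧸ R // x ≠ 1 ∧ r ∣ n}
  have hnp : ∀ x : W, ∀ b : K, b ^ r ≠ (((x.1.out : U) : Kˣ) : K) := by
    intro x b hb
    have hb0 : b ≠ 0 := by
      rintro rfl
      rw [zero_pow hr.ne_zero] at hb
      exact Units.ne_zero _ hb.symm
    obtain ⟨d, hd, hdc⟩ := hpow _ (x.1.out).2
      ⟨Units.mk0 b hb0, Units.ext (by rw [Units.val_pow_eq_pow_val, Units.val_mk0, hb])⟩
    refine x.2.1 ?_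
    rw [← QuotientGroup.out_eq' x.1, QuotientGroup.eq_one_iff]
    exact ⟨⟨d, hd⟩, Subtype.ext hdc⟩
  have hMex : ∀ x : W, ∃ g, φ g ^ r = sc ((x.1.out : U) : Kˣ) := by
    intro x
    obtain ⟨m, hm⟩ := x.2.2
    haveI : NeZero r := ⟨hr.ne_zero⟩
    let e : ZMod r × Fin m ≃ Fin n := Fintype.equivFinOfCardEq (by simp [hm])
    let σ : Equiv.Perm (Fin n) := e.permCongr (Equiv.prodCongr (Equiv.addRight 1) (Equiv.refl _))
    let c : Kˣ := ((x.1.out : U) : Kˣ)
    let w : Fin n → Kˣ := fun j => if (e.symm j).1 = 0 then c else 1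
    obtain ⟨g, hg⟩ := hmono σ w (fun j => by
      show (if (e.symm j).1 = 0 then c else 1) ∈ U
      split_ifs
      exacts [(x.1.out).2, U.one_mem])
    refine ⟨g, ?_⟩
    have hσ : ∀ (l : ℕ) (p : ZMod r × Fin m), (σ ^ l) (e p) = e (p.1 + l, p.2) := by
      intro l p
      induction l with
      | zero => simp
      | succ l ih =>
        rw [pow_succ', Equiv.Perm.mul_apply, ih]
        simp [σ, Equiv.permCongr_apply, add_assoc]
    rw [hg, mono_pow, show sc c = mono 1 (fun _ => c) from scalar_eq_mono c]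
    congr 1
    · refine Equiv.ext fun j => ?_
      obtain ⟨p, rfl⟩ := e.surjective j
      simp [hσ]
    · funext j
      obtain ⟨⟨y, t⟩, rfl⟩ := e.surjective j
      rw [Finset.prod_eq_single ((-y).val)]
      · simp [w, hσ]
      · intro l hl hne
        simp only [w, hσ, Equiv.symm_apply_apply]
        rw [if_neg]
        intro h0
        apply hne
        rw [← ZMod.val_cast_of_lt (Finset.mem_range.1 hl)]
        exact congrArg ZMod.val (by linear_combination h0)
      · intro h
        exact absurd (Finset.mem_range.2 (ZMod.val_lt _)) h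
  choose M hM using hMex
  have hMZ : ∀ x, ¬ ∃ u ∈ U, sc u = φ (M x) := by
    rintro x ⟨u, hu, hux⟩
    refine hnp x (u : K) ?_
    rw [← Units.val_pow_eq_pow_val]
    exact congrArg Units.val (scalar_inj hn (show sc (u ^ r) = sc _ by rw [map_pow, hux, hM x]))
  have hirr : ∀ x : W, ∀ g : GL (Fin n) K, g ^ r = sc ((x.1.out : U) : Kˣ) →
      g.1.charpoly = (X ^ r - C (((x.1.out : U) : Kˣ) : K)) ^ (n / r) := by
    intro x g hg
    have hi : Irreducible (X ^ r - C (((x.1.out : U) : Kˣ) : K)) :=
      X_pow_sub_C_irreducible_of_prime hr (hnp x)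
    have h0 : aeval g.1 (X ^ r - C (((x.1.out : U) : Kˣ) : K)) = 0 := by
      rw [map_sub, map_pow, aeval_X, aeval_C, ← Units.val_pow_eq_pow_val, hg, sub_eq_zero]
      show Matrix.scalar (Fin n) _ = _
      rfl
    obtain ⟨j, -, hj⟩ := (dvd_prime_pow hi.prime n).1 (charpoly_dvd_pow _ _ h0)
    have hm : (X ^ r - C (((x.1.out : U) : Kˣ) : K)).Monic := monic_X_pow_sub_C _ hr.ne_zero
    have he := eq_of_monic_of_associated (Matrix.charpoly_monic _) (hm.pow j) hj
    have hd := congrArg natDegree he
    rw [hm.natDegree_pow, natDegree_X_pow_sub_C, Matrix.charpoly_natDegree_eq_dim, Fintype.card_fin] at hd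
    rw [he]
    congr 1
    rw [hd, Nat.mul_div_cancel _ hr.pos]
  -- the bijection
  let fD : Comp μ n → {C : ConjClasses (G ⧸ Z) // ∃ g : G ⧸ Z, ConjClasses.mk g = C ∧ orderOf g = r} :=
    fun a => ⟨ConjClasses.mk (QuotientGroup.mk (D a)), _, rfl,
      (hord _).2 ⟨⟨1, U.one_mem, by rw [map_one]; exact hDr a⟩, hDZ a⟩⟩
  have hrot : ∀ (d : μ) (a : Comp μ n), fD (d • a) = fD a := by
    intro d a
    refine Subtype.ext (hsame _ _ _ (hvU d) (isConj_of_pow_eq hrK (c := 1) ?_ ?_ ?_))
    · rw [map_one]; exact hDr _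
    · rw [(scalar_comm (v d) _).mul_pow, ← map_pow, hvr, map_one, one_mul, hDr]
    · rw [hDcp, hDcp1]
  let fO : MulAction.orbitRel.Quotient μ (Comp μ n) →
      {C : ConjClasses (G ⧸ Z) // ∃ g : G ⧸ Z, ConjClasses.mk g = C ∧ orderOf g = r} :=
    Quotient.lift fD (fun a b hab => by
      obtain ⟨d, hd⟩ := MulAction.mem_orbit_iff.1 (MulAction.orbitRel_apply.1 hab)
      rw [← hd, hrot])
  let fW : W → {C : ConjClasses (G ⧸ Z) // ∃ g : G ⧸ Z, ConjClasses.mk g = C ∧ orderOf g = r} :=
    fun x => ⟨ConjClasses.mk (QuotientGroup.mk (M x)), _, rfl,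
      (hord _).2 ⟨⟨_, (x.1.out).2, hM x⟩, hMZ x⟩⟩
  have hkey : ∀ (g h : G) (c e : Kˣ) (hc : c ∈ U) (he : e ∈ U), φ g ^ r = sc c → φ h ^ r = sc e →
      ConjClasses.mk (QuotientGroup.mk g : G ⧸ Z) = ConjClasses.mk (QuotientGroup.mk h) →
      (QuotientGroup.mk (⟨c, hc⟩ : U) : U ⧸ R) = QuotientGroup.mk ⟨e, he⟩ := by
    intro g h c e hc he hgc hhe hgh
    obtain ⟨u, hu, hcj⟩ := hlift g h hgh
    obtain ⟨k, hk⟩ := isConj_iff.1 hcj
    have h1 : c = u ^ r * e := by
      refine scalar_inj hn ?_
      show sc c = sc (u ^ r * e)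
      rw [map_mul, map_pow, ← hhe, ← (scalar_comm u _).mul_pow, ← hk, conj_pow, hgc,
        ← (scalar_comm c k).eq, mul_inv_cancel_right]
    refine (QuotientGroup.eq).2 ⟨⟨u, hu⟩⁻¹, Subtype.ext ?_⟩
    simp [h1]
  have hbij : Function.Bijective (Sum.elim fO fW) := by
    constructor
    · rintro (s | x) (t | y) h
      · induction s using Quotient.inductionOn with | h a => ?_
        induction t using Quotient.inductionOn with | h b => ?_
        obtain ⟨u, hu, hcj⟩ := hlift _ _ (congrArg Subtype.val h)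
        obtain ⟨k, hk⟩ := isConj_iff.1 hcj
        have h1 : u ^ r = 1 := by
          refine scalar_inj hn ?_
          show sc (u ^ r) = sc 1
          calc sc (u ^ r) = sc u ^ r * φ (D b) ^ r := by rw [map_pow, hDr, mul_one]
            _ = (k * φ (D a) * k⁻¹) ^ r := by rw [← (scalar_comm u _).mul_pow, hk]
            _ = sc 1 := by rw [conj_pow, hDr, mul_one, mul_inv_cancel, map_one]
        let d : μ := ⟨⟨u, hu⟩, MonoidHom.mem_ker.2 (Subtype.ext h1)⟩
        have h2 : a = d • b := by
          refine Subtype.ext (hcount _ _ ?_)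
          rw [← hDcp1, ← hDcp]
          exact charpoly_eq_of_isConj hcj
        exact congrArg Sum.inl (Quotient.sound (MulAction.orbitRel_apply.2 ⟨d, h2.symm⟩))
      · induction s using Quotient.inductionOn with | h a => ?_
        refine absurd ?_ y.2.1
        rw [← QuotientGroup.out_eq' y.1,
          ← hkey (D a) (M y) 1 _ U.one_mem (y.1.out).2 (by rw [map_one]; exact hDr a) (hM y)
            (congrArg Subtype.val h)]
        rfl
      · induction t using Quotient.inductionOn with | h a => ?_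
        refine absurd ?_ x.2.1
        rw [← QuotientGroup.out_eq' x.1,
          hkey (M x) (D a) _ 1 (x.1.out).2 U.one_mem (hM x) (by rw [map_one]; exact hDr a)
            (congrArg Subtype.val h)]
        rfl
      · refine congrArg Sum.inr (Subtype.ext ?_)
        have h1 := hkey (M x) (M y) _ _ (x.1.out).2 (y.1.out).2 (hM x) (hM y) (congrArg Subtype.val h)
        exact (QuotientGroup.out_eq' x.1).symm.trans (h1.trans (QuotientGroup.out_eq' y.1))
    · rintro ⟨C, g, rfl, hg⟩
      obtain ⟨g, rfl⟩ := QuotientGroup.mk_surjective g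
      obtain ⟨⟨c, hc, hgc⟩, hgZ⟩ := (hord g).1 hg
      obtain ⟨cx, hcx, d, hd, hcd, hmk⟩ : ∃ cx : Kˣ, ∃ hcx : cx ∈ U, ∃ d ∈ U, c = d ^ r * cx ∧
          ((cx = 1) ∨ ∃ x : U ⧸ R, x ≠ 1 ∧ ((x.out : U) : Kˣ) = cx) := by
        by_cases h1 : (QuotientGroup.mk (⟨c, hc⟩ : U) : U ⧸ R) = 1
        · obtain ⟨d, hd⟩ := (QuotientGroup.eq_one_iff _).1 h1
          refine ⟨1, U.one_mem, d.1, d.2, ?_, Or.inl rfl⟩
          rw [mul_one]
          exact (congrArg Subtype.val hd).symm
        · obtain ⟨x, hx⟩ : ∃ x : U ⧸ R, x = QuotientGroup.mk ⟨c, hc⟩ := ⟨_, rfl⟩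
          have h2 : (x.out)⁻¹ * ⟨c, hc⟩ ∈ R := QuotientGroup.eq.1 ((QuotientGroup.out_eq' x).trans hx)
          obtain ⟨d, hd⟩ := h2
          refine ⟨_, (x.out).2, d.1, d.2, ?_, Or.inr ⟨x, hx ▸ h1, rfl⟩⟩
          have h3 := congrArg Subtype.val hd
          simp only [powMonoidHom_apply, SubmonoidClass.coe_pow, Subgroup.coe_mul, Subgroup.coe_inv] at h3
          rw [h3, mul_comm, mul_inv_cancel_left]
      obtain ⟨z, -, hz⟩ := hscU d⁻¹ (U.inv_mem hd)
      have hh : φ (z * g) ^ r = sc cx := by
        rw [map_mul, hz, (scalar_comm d⁻¹ _).mul_pow, hgc, ← map_pow, ← map_mul, hcd, inv_pow,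
          inv_mul_cancel_left]
      have hgh : φ g = sc d * φ (z * g) := by
        rw [map_mul, hz, ← mul_assoc, ← map_mul, mul_inv_cancel, map_one, one_mul]
      have hclass : ∀ y : G, IsConj (φ y) (φ (z * g)) →
          ConjClasses.mk (QuotientGroup.mk y : G ⧸ Z) = ConjClasses.mk (QuotientGroup.mk g) := by
        intro y hy
        refine hsame _ _ d⁻¹ (U.inv_mem hd) ?_
        rw [hgh, ← mul_assoc, ← map_mul, inv_mul_cancel, map_one, one_mul]
        exact hy
      rcases hmk with rfl | ⟨x, hx1, rfl⟩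
      · rw [map_one] at hh
        set h := φ (z * g) with hdef
        have h0 : aeval h.1 (∏ x : μ, (X - C (v x : K))) = 0 := by
          rw [hprod, map_sub, map_pow, aeval_X, aeval_C, ← Units.val_pow_eq_pow_val, hh, map_one,
            Units.val_one, sub_self]
        have hdvd := charpoly_dvd_pow _ _ h0
        have hne : (∏ x : μ, (X - C (v x : K))) ^ n ≠ 0 :=
          pow_ne_zero _ (Finset.prod_ne_zero_iff.2 fun x _ => X_sub_C_ne_zero _)
        have hsp : h.1.charpoly.Splits :=
          Splits.of_dvd ((Splits.prod fun x _ => Splits.X_sub_C _).pow n) hne hdvd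
        have hS : h.1.charpoly.roots.toFinset ⊆ Finset.univ.image fun x : μ => (v x : K) := by
          intro y hy
          rw [Multiset.mem_toFinset, mem_roots (Matrix.charpoly_monic _).ne_zero] at hy
          have h1 := hy.dvd hdvd
          rw [IsRoot, eval_pow, pow_eq_zero_iff', eval_prod, Finset.prod_eq_zero_iff] at h1
          obtain ⟨⟨x, -, hx⟩, -⟩ := h1
          rw [eval_sub, eval_X, eval_C, sub_eq_zero] at hx
          exact Finset.mem_image.2 ⟨x, Finset.mem_univ _, hx.symm⟩
        let a : μ → ℕ := fun x => h.1.charpoly.roots.count (v x : K)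
        have hcp : h.1.charpoly = ∏ x : μ, (X - C (v x : K)) ^ a x := by
          conv_lhs => rw [hsp.eq_prod_roots_of_monic (Matrix.charpoly_monic _)]
          rw [Finset.prod_multiset_map_count, Finset.prod_subset hS (fun y _ hy => by
            rw [Multiset.count_eq_zero.2 (fun hm => hy (Multiset.mem_toFinset.2 hm)), pow_zero]),
            Finset.prod_image (fun p _ q _ hpq => hinjK hpq)]
        have hsum : ∑ x, a x = n := by
          have h1 := congrArg natDegree hcp
          rw [Matrix.charpoly_natDegree_eq_dim, Fintype.card_fin,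
            natDegree_prod_of_monic _ _ (fun x _ => (monic_X_sub_C _).pow _)] at h1
          simp only [natDegree_pow, natDegree_X_sub_C, mul_one] at h1
          exact h1.symm
        have hlt : ∀ x, a x < n := by
          intro x
          by_contra hx
          refine hgZ ⟨d * v x, U.mul_mem hd (hvU x), ?_⟩
          have h2 : a = Pi.single x n := by
            funext y
            by_cases hy : y = x
            · subst hy
              rw [Pi.single_eq_same]
              have := Finset.single_le_sum (fun z _ => Nat.zero_le (a z)) (Finset.mem_univ y)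
              omega
            · rw [Pi.single_eq_of_ne hy]
              have h3 : a y + a x ≤ n := by
                rw [← hsum, ← Finset.sum_pair hy]
                exact Finset.sum_le_sum_of_subset (Finset.subset_univ _)
              omega
          have h4 : IsConj (sc (v x)) h := by
            refine isConj_of_pow_eq hrK (c := 1) ?_ ?_ ?_
            · rw [← map_pow, hvr]
            · rw [map_one]; exact hh
            · rw [hcp, h2, show sc (v x) = mono 1 (fun _ => v x) from scalar_eq_mono _, mono_charpoly,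
                Finset.prod_eq_single x (fun y _ hy => by simp [hy]) (by simp)]
              simp
          obtain ⟨k, hk⟩ := isConj_iff.1 h4
          rw [← (scalar_comm (v x) k).eq, mul_inv_cancel_right] at hk
          show sc (d * v x) = φ g
          rw [hgh, ← hk, ← map_mul]
        refine ⟨Sum.inl (Quotient.mk'' (⟨a, hsum, hlt⟩ : Comp μ n)), Subtype.ext (hclass _ ?_)⟩
        refine isConj_of_pow_eq hrK (c := 1) ?_ ?_ ?_
        · rw [map_one]; exact hDr _
        · rw [map_one]; exact hh
        · rw [hDcp1, hcp]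
      · have hirr' := fun (hdiv : r ∣ n) => hirr ⟨x, hx1, hdiv⟩
        have hdiv : r ∣ n := by
          have hi : Irreducible (X ^ r - C (((x.out : U) : Kˣ) : K)) := by
            refine X_pow_sub_C_irreducible_of_prime hr fun b hb => ?_
            have hb0 : b ≠ 0 := by
              rintro rfl
              rw [zero_pow hr.ne_zero] at hb
              exact Units.ne_zero _ hb.symm
            obtain ⟨d', hd', hdc⟩ := hpow _ (x.out).2
              ⟨Units.mk0 b hb0, Units.ext (by rw [Units.val_pow_eq_pow_val, Units.val_mk0, hb])⟩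
            refine hx1 ?_
            rw [← QuotientGroup.out_eq' x, QuotientGroup.eq_one_iff]
            exact ⟨⟨d', hd'⟩, Subtype.ext hdc⟩
          have h0 : aeval (φ (z * g)).1 (X ^ r - C (((x.out : U) : Kˣ) : K)) = 0 := by
            rw [map_sub, map_pow, aeval_X, aeval_C, ← Units.val_pow_eq_pow_val, hh, sub_eq_zero]
            rfl
          obtain ⟨j, -, hj⟩ := (dvd_prime_pow hi.prime n).1 (charpoly_dvd_pow _ _ h0)
          have hd' := natDegree_eq_of_degree_eq (degree_eq_degree_of_associated hj)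
          rw [natDegree_pow, natDegree_X_pow_sub_C, Matrix.charpoly_natDegree_eq_dim, Fintype.card_fin] at hd'
          exact ⟨j, by rw [hd', mul_comm]⟩
        refine ⟨Sum.inr ⟨x, hx1, hdiv⟩, Subtype.ext (hclass _ ?_)⟩
        exact isConj_of_pow_eq hrK (hM ⟨x, hx1, hdiv⟩) hh
          ((hirr' hdiv _ (hM ⟨x, hx1, hdiv⟩)).trans (hirr' hdiv _ hh).symm)
  rw [← Nat.card_eq_of_bijective _ hbij, Nat.card_sum, card_orbits hr hμc hn]
  have hW : Nat.card W = (r - 1) * (if r ∣ n then 1 else 0) := by
    split_ifs with hd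
    · rw [mul_one, Nat.card_congr (Equiv.subtypeEquivRight fun x => and_iff_left hd :
        W ≃ {x : U ⧸ R // x ≠ 1})]
      haveI := Fintype.ofFinite (U ⧸ R)
      rw [Nat.card_eq_fintype_card, Fintype.card_subtype_compl, Fintype.card_subtype_eq,
        ← Nat.card_eq_fintype_card, hQc]
    · rw [mul_zero]
      haveI : IsEmpty W := ⟨fun x => hd x.2.2⟩
      exact Nat.card_of_isEmpty
  rw [hW]
  have := hr.two_le
  split_ifs <;> omega

end Count

end Cfsg.Agent.PrimeScalarClasses
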